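import Groth.Agent.PrinPartLib.GrFlat
import Groth.Agent.CohCmpLib.PullOnComp
import Groth.Agent.FComplLib.Thicken
import Groth.Agent.QuotSchLib.PullFlat
import Groth.Agent.RatModLib.Powers
import Groth.Agent.LocEqnLib.Basic
import Groth.Agent.PicH1Lib.SqZero
import Groth.Agent.SweepSix.ConormalSpec
import Groth.Agent.CurvLib.Divisor
import Groth.Agent.FlatCrit.Quotient

/-!
# Graded pieces of the ideal of a section under base change
-/

set_option autoImplicit false
set_option linter.style.haveILetI false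
set_option maxHeartbeats 1000000
universe u

open CategoryTheory CategoryTheory.Limits AlgebraicGeometry TopologicalSpace Opposite
open scoped TensorProduct
open KFlatLib (pb puSec puSecLE puSecLE_smul isBaseChange_puSec)
open PicH1Lib (idVal exists_idVal app_idVal idVal_injective)

noncomputable section

namespace GrBCLib

section Algebra

variable {A B : Type u} [CommRing A] [CommRing B] [Algebra A B] (I : Ideal B)

/-- The graded piece `I^k / I^(k+1)`. -/
abbrev Gr (k : ℕ) := ↥(I ^ k : Submodule B B) ⧸ (I • ⊤ : Submodule B ↥(I ^ k : Submodule B B))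

/-- The quotient by a power is flat when the lower graded pieces are. -/
theorem flat_quot_pow (n : ℕ) (h : ∀ k < n, Module.Flat A (Gr I k)) :
    Module.Flat A (B ⧸ (I ^ n : Submodule B B)) := by
  induction n with
  | zero =>
    haveI : Subsingleton (B ⧸ (I ^ 0 : Submodule B B)) :=
      Submodule.Quotient.subsingleton_iff.2 (by rw [pow_zero, Ideal.one_eq_top])
    infer_instance
  | succ n ih =>
    haveI := ih fun k hk => h k (by omega)
    haveI := h n (by omega)
    have hle : (I ^ (n + 1) : Submodule B B) ≤ (I ^ n : Submodule B B) := Ideal.pow_le_pow_right (Nat.le_succ n)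
    have hmap : (I • ⊤ : Submodule B ↥(I ^ n : Submodule B B)).map (I ^ n : Submodule B B).subtype =
        (I ^ (n + 1) : Submodule B B) := by
      rw [Submodule.map_smul'', Submodule.map_subtype_top, smul_eq_mul, pow_succ']
    let i : Gr I n →ₗ[B] B ⧸ (I ^ (n + 1) : Submodule B B) :=
      Submodule.mapQ _ _ (I ^ n : Submodule B B).subtype (Submodule.map_le_iff_le_comap.1 hmap.le)
    let p : B ⧸ (I ^ (n + 1) : Submodule B B) →ₗ[B] B ⧸ (I ^ n : Submodule B B) := Submodule.factor hle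
    refine FlatCrit.flat_of_extension (i.restrictScalars A) (p.restrictScalars A) ?_ ?_ ?_
    · refine LinearMap.ker_eq_bot.1 (eq_bot_iff.2 fun x => ?_)
      induction x using Submodule.Quotient.induction_on with | _ x => ?_
      intro hx
      have hx' : (x : B) ∈ (I ^ (n + 1) : Submodule B B) := (Submodule.Quotient.mk_eq_zero _).1 hx
      rw [← hmap] at hx'
      obtain ⟨y, hy, hyx⟩ := hx'
      rw [Submodule.mem_bot, Submodule.Quotient.mk_eq_zero, ← Subtype.ext hyx]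
      exact hy
    · intro x
      induction x using Submodule.Quotient.induction_on with | _ x => ?_
      refine ⟨fun hx => ⟨Submodule.Quotient.mk ⟨x, (Submodule.Quotient.mk_eq_zero _).1 hx⟩, rfl⟩, ?_⟩
      rintro ⟨y, hy⟩
      induction y using Submodule.Quotient.induction_on with | _ y => ?_
      rw [← hy]
      exact (Submodule.Quotient.mk_eq_zero _).2 y.2
    · intro x
      induction x using Submodule.Quotient.induction_on with | _ x => ?_
      exact ⟨Submodule.Quotient.mk x, rfl⟩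

/-- A base change along a surjection is the quotient by the kernel. -/
theorem nonempty_baseChange_quot {C M G : Type u} [CommRing C] [Algebra B C] [AddCommGroup M] [Module B M]
    [AddCommGroup G] [Module B G] [Module C G] [IsScalarTower B C G] (ψ : M →ₗ[B] G) (hψ : IsBaseChange C ψ)
    (hC : Function.Surjective (algebraMap B C)) (hI : RingHom.ker (algebraMap B C) = I) :
    Nonempty (G ≃ₗ[B] M ⧸ (I • ⊤ : Submodule B M)) := by
  let a : C ≃ₗ[B] B ⧸ I :=
    (Ideal.quotientKerAlgEquivOfSurjective (f := Algebra.ofId B C) hC).symm.toLinearEquiv ≪≫ₗ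
      Submodule.quotEquivOfEq _ _ hI
  exact ⟨(hψ.equiv.restrictScalars B).symm ≪≫ₗ TensorProduct.congr a (LinearEquiv.refl B M) ≪≫ₗ
    TensorProduct.quotTensorEquivQuotSMul M I⟩

end Algebra

variable {X Y : Scheme.{u}} {g : X ⟶ Y} {f : Y ⟶ X} [IsClosedImmersion f]

/-- `O/I^n` is flat over the base when the lower graded pieces of a section are flat. -/
theorem isFlatOver_quotMod (hf : f ≫ g = 𝟙 Y) (n : ℕ)
    (hflat : ∀ k < n, FlatMod.IsFlat (PrinPart.grMod f k)) :
    FlatMod.IsFlatOver g (ClSub.quotMod (f.ker ^ n)) := by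
  intro x
  haveI : Coh.IsQCoh (ClSub.quotMod (f.ker ^ n)) :=
    haveI : Coh.IsQCoh (Coh.structureModule (f.ker ^ n).subscheme) := QCohLib.isQCoh_unit
    QCohLib.isQCoh_pushforward _ _
  obtain ⟨W, hW, hxW, -⟩ := exists_isAffineOpen_mem_and_subset (x := g x) (U := ⊤) trivial
  obtain ⟨V, hV, hxV, hVW⟩ := exists_isAffineOpen_mem_and_subset (x := x) (U := g ⁻¹ᵁ W) hxW
  have hC : IsAffineOpen (f ⁻¹ᵁ V) := hV.preimage f
  have hCW : f ⁻¹ᵁ V ≤ W := fun y hy => by
    have h1 : (f ≫ g) y ∈ W := hVW hy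
    rw [hf] at h1
    exact h1
  letI : Algebra Γ(Y, W) Γ(X, V) := (g.appLE W V hVW).hom.toAlgebra
  letI : Algebra Γ(X, V) Γ(Y, f ⁻¹ᵁ V) := (f.appLE V (f ⁻¹ᵁ V) le_rfl).hom.toAlgebra
  letI : Algebra Γ(Y, W) Γ(Y, f ⁻¹ᵁ V) := ((𝟙 Y : Y ⟶ Y).appLE W (f ⁻¹ᵁ V) hCW).hom.toAlgebra
  haveI : IsScalarTower Γ(Y, W) Γ(X, V) Γ(Y, f ⁻¹ᵁ V) := IsScalarTower.of_algebraMap_eq fun a => by
    show (𝟙 Y : Y ⟶ Y).appLE W (f ⁻¹ᵁ V) hCW a = f.appLE V (f ⁻¹ᵁ V) le_rfl (g.appLE W V hVW a)
    refine Eq.trans ?_ (congr($(Scheme.Hom.appLE_comp_appLE f g W V (f ⁻¹ᵁ V) hVW le_rfl) a)).symm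
    congr 1
    simp only [hf]
  haveI : Module.Flat Γ(Y, W) Γ(Y, f ⁻¹ᵁ V) :=
    HasRingHomProperty.appLE @Flat (𝟙 Y) inferInstance ⟨W, hW⟩ ⟨_, hC⟩ hCW
  have hsurj : Function.Surjective (algebraMap Γ(X, V) Γ(Y, f ⁻¹ᵁ V)) := by
    show Function.Surjective (f.appLE V (f ⁻¹ᵁ V) le_rfl)
    rw [← Scheme.Hom.app_eq_appLE]
    exact f.app_surjective V hV
  let I : Ideal Γ(X, V) := f.ker.ideal ⟨V, hV⟩
  have hI : RingHom.ker (algebraMap Γ(X, V) Γ(Y, f ⁻¹ᵁ V)) = I := by
    show RingHom.ker (f.appLE V (f ⁻¹ᵁ V) le_rfl).hom = _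
    rw [← Scheme.Hom.app_eq_appLE]
    exact (Scheme.Hom.ker_apply f ⟨V, hV⟩).symm
  have hIk : ∀ k : ℕ, (f.ker ^ k).ideal ⟨V, hV⟩ = I ^ k := fun k => RatModLib.ideal_pow_eq _ k _
  have hker : ∀ (k : ℕ) (b : Γ(X, V)),
      (f.ker ^ k).subschemeι.app V b = 0 ↔ b ∈ (I ^ k : Submodule Γ(X, V) Γ(X, V)) := fun k b => by
    rw [← hIk k]
    conv_rhs => rw [← congrArg (fun J : X.IdealSheafData => J.ideal ⟨V, hV⟩) (f.ker ^ k).ker_subschemeι,
      Scheme.Hom.ker_apply]
    exact Iff.rfl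
  have hgr : ∀ k < n, Module.Flat Γ(Y, W) (Gr I k) := fun k hk => by
    let J := f.ker ^ k
    haveI : Coh.IsQCoh (ClSub.idealMod J) := SweepSix.ConormalSpec.isQCoh_idealMod J
    haveI : Coh.IsQCoh (pb f (ClSub.idealMod J)) := KFlatLib.isQCoh_pullback f (ClSub.idealMod J)
    haveI : Module.Flat Γ(Y, f ⁻¹ᵁ V) Γ(pb f (ClSub.idealMod J), f ⁻¹ᵁ V) := LocEqnLib.flat_sections (pb f (ClSub.idealMod J)) (hflat k hk) hC
    letI : Module Γ(X, V) Γ(pb f (ClSub.idealMod J), f ⁻¹ᵁ V) := Module.compHom _ (f.appLE V (f ⁻¹ᵁ V) le_rfl).hom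
    haveI : IsScalarTower Γ(X, V) Γ(Y, f ⁻¹ᵁ V) Γ(pb f (ClSub.idealMod J), f ⁻¹ᵁ V) := IsScalarTower.of_algebraMap_smul fun _ _ => rfl
    letI : Module Γ(Y, W) Γ(pb f (ClSub.idealMod J), f ⁻¹ᵁ V) := Module.compHom _ ((𝟙 Y : Y ⟶ Y).appLE W (f ⁻¹ᵁ V) hCW).hom
    haveI : IsScalarTower Γ(Y, W) Γ(Y, f ⁻¹ᵁ V) Γ(pb f (ClSub.idealMod J), f ⁻¹ᵁ V) := IsScalarTower.of_algebraMap_smul fun _ _ => rfl
    haveI : IsScalarTower Γ(Y, W) Γ(X, V) Γ(pb f (ClSub.idealMod J), f ⁻¹ᵁ V) := IsScalarTower.of_algebraMap_smul fun a z => by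
      rw [← IsScalarTower.algebraMap_smul Γ(Y, f ⁻¹ᵁ V) (algebraMap Γ(Y, W) Γ(X, V) a) z,
        ← IsScalarTower.algebraMap_apply, IsScalarTower.algebraMap_smul]
    haveI : Module.Flat Γ(Y, W) Γ(pb f (ClSub.idealMod J), f ⁻¹ᵁ V) := Module.Flat.trans Γ(Y, W) Γ(Y, f ⁻¹ᵁ V) Γ(pb f (ClSub.idealMod J), f ⁻¹ᵁ V)
    let ψ : Γ(ClSub.idealMod J, V) →ₗ[Γ(X, V)] Γ(pb f (ClSub.idealMod J), f ⁻¹ᵁ V) :=
      { toFun := puSecLE f _ le_rfl, map_add' := map_add _
        map_smul' := fun a s => puSecLE_smul f _ le_rfl a s }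
    have hb := isBaseChange_puSec f (ClSub.idealMod J) hV hC le_rfl (fun _ => rfl) ψ fun _ => rfl
    obtain ⟨e₁⟩ := nonempty_baseChange_quot I ψ hb hsurj hI
    let r : Γ(ClSub.idealMod J, V) →ₗ[Γ(X, V)] ↥(I ^ k : Submodule Γ(X, V) Γ(X, V)) :=
      LinearMap.codRestrict _
        { toFun := idVal J, map_add' := fun a b => map_add ((ClSub.idealModι J).app V).hom a b
          map_smul' := fun a s => (ClSub.idealModι J).app_smul a s }
        fun s => (hker k _).1 (app_idVal J s)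
    have hr : Function.Bijective r := ⟨fun a b h => idVal_injective J V (congrArg Subtype.val h), fun b => by
      obtain ⟨s, hs⟩ := exists_idVal J ((hker k _).2 b.2)
      exact ⟨s, Subtype.ext hs⟩⟩
    let e₂ := LinearEquiv.ofBijective r hr
    let e₃ : (Γ(ClSub.idealMod J, V) ⧸ (I • ⊤ : Submodule Γ(X, V) Γ(ClSub.idealMod J, V))) ≃ₗ[Γ(X, V)] Gr I k :=
      Submodule.Quotient.equiv _ _ e₂ (by
        rw [Submodule.map_smul'', Submodule.map_top, LinearEquiv.range])
    exact Module.Flat.of_linearEquiv ((e₁ ≪≫ₗ e₃).restrictScalars Γ(Y, W)).symm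
  haveI hq : Module.Flat Γ(Y, W) (Γ(X, V) ⧸ (I ^ n : Submodule Γ(X, V) Γ(X, V))) := flat_quot_pow I n hgr
  let Q := ClSub.quotMod (f.ker ^ n)
  letI : Module Γ(Y, W) Γ(Q, V) := Module.compHom _ (g.appLE W V hVW).hom
  haveI : IsScalarTower Γ(Y, W) Γ(X, V) Γ(Q, V) := IsScalarTower.of_algebraMap_smul fun _ _ => rfl
  let π : Γ(X, V) →ₗ[Γ(X, V)] Γ(Q, V) :=
    { toFun := fun b => (ClSub.toSubscheme (f.ker ^ n)).app V b
      map_add' := fun a b => map_add ((ClSub.toSubscheme (f.ker ^ n)).app V).hom a b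
      map_smul' := fun a b => (ClSub.toSubscheme (f.ker ^ n)).app_smul a b }
  have hπ : Function.Surjective π := CurvLib.unitToPush_app_surjective (f.ker ^ n).subschemeι hV
  have hπk : LinearMap.ker π = (I ^ n : Submodule Γ(X, V) Γ(X, V)) := by
    ext b
    exact hker n b
  let e : (Γ(X, V) ⧸ (I ^ n : Submodule Γ(X, V) Γ(X, V))) ≃ₗ[Γ(X, V)] Γ(Q, V) :=
    Submodule.quotEquivOfEq _ _ hπk.symm ≪≫ₗ π.quotKerEquivOfSurjective hπ
  haveI : Module.Flat Γ(Y, W) Γ(Q, V) := Module.Flat.of_linearEquiv (e.restrictScalars Γ(Y, W)).symm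
  exact RGFlatLib.isFlatOverAt_of_flat_sections g Q hW hV hVW rfl hxV

variable {X' Y' : Scheme.{u}} {v : X' ⟶ X} {g' : X' ⟶ Y'} {u : Y' ⟶ Y}

/-- Ideal modules commute with base change when the quotient is flat over the base. -/
theorem exists_idealModBC (hsq : IsPullback v g' g u) (J : X.IdealSheafData)
    (hJf : FlatMod.IsFlatOver g (ClSub.quotMod J)) (J' : X'.IdealSheafData) (hJ : J.comap v = J') :
    ∃ χ : (Scheme.Modules.pullback v).obj (ClSub.idealMod J) ⟶ ClSub.idealMod J', IsIso χ ∧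
      ∀ (U : X.Opens) (a : Γ(ClSub.idealMod J, U)),
        OmegaSh.idealSect J' (v ⁻¹ᵁ U) (χ.app (v ⁻¹ᵁ U) (KFlatLib.puSec v a)) =
          v.app U (OmegaSh.idealSect J U a) := by
  subst hJ
  let J' := J.comap v
  let w : J'.subscheme ⟶ J.subscheme := (J.comapIso v).hom ≫ pullback.snd _ _
  have H : IsPullback w J'.subschemeι J.subschemeι v := by
    refine (isPullback_of_isClosedImmersion _ _ w v ?_ ?_).flip
    · simp only [w, Category.assoc, ← pullback.condition]
      rw [Scheme.IdealSheafData.comapIso_hom_fst_assoc]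
    · rw [Scheme.IdealSheafData.ker_subschemeι, Scheme.IdealSheafData.ker_subschemeι]
  haveI : (Scheme.Modules.pullback v).Additive :=
    (Scheme.Modules.pullbackPushforwardAdjunction v).left_adjoint_additive
  let O := Coh.structureModule J.subscheme
  haveI : Coh.IsQCoh O := QCohLib.isQCoh_unit
  haveI : Coh.IsQCoh (Coh.structureModule X) := QCohLib.isQCoh_unit
  haveI : Coh.IsQCoh (ClSub.quotMod J) := QCohLib.isQCoh_pushforward _ _
  let b₀ := CohBC.bc0 J.subschemeι v J'.subschemeι w H.w O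
  haveI hb₀ : IsIso b₀ := Groth.Agent.S12131.result J.subschemeι v w J'.subschemeι H O
  let b : (Scheme.Modules.pullback v).obj ((Scheme.Modules.pushforward J.subschemeι).obj O) ≅
      (Scheme.Modules.pushforward J'.subschemeι).obj (Coh.structureModule J'.subscheme) :=
    @asIso _ _ _ _ b₀ hb₀ ≪≫ (Scheme.Modules.pushforward J'.subschemeι).mapIso (KFlatLib.pullUnitIso w)
  let a := KFlatLib.pullUnitIso v
  have hsq' : (Scheme.Modules.pullback v).map (ClSub.toSubscheme J) ≫ b.hom =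
      a.hom ≫ ClSub.toSubscheme J' := CohCmpLib.bc0_unit H.w
  haveI : Epi (ClSub.toSubscheme J) := CurvLib.epi_toSubscheme J
  haveI : Mono ((Scheme.Modules.pullback v).map (ClSub.idealModι J)) :=
    QuotSchLib.mono_pullback_kernel hsq (ClSub.toSubscheme J) hJf
  let S : ShortComplex X.Modules := CurvLib.idealSeq J
  have hS : (S.map (Scheme.Modules.pullback v)).Exact :=
    haveI : PreservesColimitsOfSize.{0, 0} (Scheme.Modules.pullback v) :=
      (Scheme.Modules.pullbackPushforwardAdjunction v).leftAdjoint_preservesColimits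
    (CurvLib.idealSeq_shortExact J).exact.map_of_epi_of_preservesCokernel _
      (CurvLib.idealSeq_shortExact J).epi_g inferInstance
  haveI : Mono (S.map (Scheme.Modules.pullback v)).f :=
    inferInstanceAs (Mono ((Scheme.Modules.pullback v).map (ClSub.idealModι J)))
  let κ : (Scheme.Modules.pullback v).obj (ClSub.idealMod J) ≅
      kernel ((Scheme.Modules.pullback v).map (ClSub.toSubscheme J)) :=
    hS.fIsKernel.conePointUniqueUpToIso (limit.isLimit _)
  have hκ : κ.hom ≫ kernel.ι _ = (Scheme.Modules.pullback v).map (ClSub.idealModι J) :=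
    IsLimit.conePointUniqueUpToIso_hom_comp hS.fIsKernel (limit.isLimit _) WalkingParallelPair.zero
  let e := kernel.mapIso ((Scheme.Modules.pullback v).map (ClSub.toSubscheme J)) (ClSub.toSubscheme J') a b hsq'
  refine ⟨(κ ≪≫ e).hom, Iso.isIso_hom _, fun U x => ?_⟩
  have h : (κ ≪≫ e).hom ≫ ClSub.idealModι J' =
      (Scheme.Modules.pullback v).map (ClSub.idealModι J) ≫ a.hom := by
    rw [← hκ]
    simp only [e, Iso.trans_hom, kernel.mapIso, ClSub.idealModι, Category.assoc, kernel.lift_ι]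
  refine (congrArg (OmegaSh.fnSect X' (v ⁻¹ᵁ U))
    (congr($(congrArg (fun k => Scheme.Modules.Hom.app k (v ⁻¹ᵁ U)) h) (KFlatLib.puSec v x)))).trans ?_
  refine (congrArg (fun z => OmegaSh.fnSect X' (v ⁻¹ᵁ U) (a.hom.app (v ⁻¹ᵁ U) z))
    (KFlatLib.puSec_natural v (ClSub.idealModι J) x)).trans ?_
  exact congrArg (OmegaSh.fnSect X' (v ⁻¹ᵁ U)) (CohCmpLib.pullUnitIso_puSec v _)

/-- **The graded pieces of a section commute with base change when they are flat.** -/
theorem isIso_grMap (hf : f ≫ g = 𝟙 Y) (hsq : IsPullback v g' g u) (f' : Y' ⟶ X') (hf' : f' ≫ g' = 𝟙 Y')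
    (hf'v : f' ≫ v = u ≫ f) (n : ℕ) (hflat : ∀ k < n, FlatMod.IsFlat (PrinPart.grMod f k))
    (φ : (Scheme.Modules.pullback u).obj (PrinPart.grMod f n) ⟶ PrinPart.grMod f' n)
    (hφ : PrinPart.IsGrMap f' f v u n φ) :
    IsIso φ := by
  have hsqv : IsPullback u f' f v := by
    have h1 : IsPullback u (f' ≫ g') (f ≫ g) u := by
      rw [hf, hf']
      exact IsPullback.of_vert_isIso ⟨by simp⟩
    exact IsPullback.of_bot h1 hf'v.symm hsq
  haveI : IsClosedImmersion f' := MorphismProperty.of_isPullback hsqv ‹_›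
  let J := f.ker ^ n
  let J' := f'.ker ^ n
  have hJ : J.comap v = J' := by
    have hk : f'.ker = f.ker.comap v := FComplLib.ker_of_isPullback hsqv.flip
    rcases n with _ | k
    · show (f.ker ^ 0).comap v = f'.ker ^ 0
      rw [pow_zero, pow_zero, Scheme.IdealSheafData.one_eq_top, Scheme.IdealSheafData.one_eq_top]
      exact Scheme.IdealSheafData.comap_top _
    · show (f.ker ^ (k + 1)).comap v = f'.ker ^ (k + 1)
      rw [FComplLib.comap_pow_succ, hk]
  obtain ⟨χ, hχ, hχv⟩ := exists_idealModBC hsq J (isFlatOver_quotMod hf n hflat) J' hJ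
  let M := ClSub.idealMod J
  let c₁ := (Scheme.Modules.pullbackComp u f).hom.app M
  let c₂ := (Scheme.Modules.pullbackCongr hsqv.w).hom.app M
  let c₃ := (Scheme.Modules.pullbackComp f' v).inv.app M
  let Φ : (Scheme.Modules.pullback u).obj (PrinPart.grMod f n) ⟶ PrinPart.grMod f' n :=
    (c₁ ≫ c₂ ≫ c₃) ≫ (Scheme.Modules.pullback f').map χ
  suffices h : φ = Φ by
    rw [h]
    have h1 : IsIso c₁ := inferInstanceAs (IsIso ((Scheme.Modules.pullbackComp u f).hom.app M))
    have h2 : IsIso c₂ := inferInstanceAs (IsIso ((Scheme.Modules.pullbackCongr hsqv.w).hom.app M))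
    have h3 : IsIso c₃ := inferInstanceAs (IsIso ((Scheme.Modules.pullbackComp f' v).inv.app M))
    have h4 : IsIso ((Scheme.Modules.pullback f').map χ) := @Functor.map_isIso _ _ _ _ _ _ _ χ hχ
    exact IsIso.comp_isIso' (IsIso.comp_isIso' h1 (IsIso.comp_isIso' h2 h3)) h4
  refine CohCmpLib.hom_ext_puSec₂ _ _ fun U a => ?_
  let s := χ.app (v ⁻¹ᵁ U) (KFlatLib.puSec v a)
  have hle : u ⁻¹ᵁ (f ⁻¹ᵁ U) ≤ f' ⁻¹ᵁ (v ⁻¹ᵁ U) := fun y hy => by
    change (u ≫ f) y ∈ U at hy
    rw [hsqv.w] at hy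
    exact hy
  have hl := hφ.2 U a s (hχv U a) _ le_rfl hle
  have hid : ∀ (N : Y'.Modules) (W : Y'.Opens) (z : Γ(N, W)),
      N.presheaf.map (homOfLE (le_refl W)).op z = z := fun N W z => by
    rw [show (homOfLE (le_refl W)).op = 𝟙 _ from Subsingleton.elim _ _, N.presheaf.map_id]
    rfl
  rw [hid] at hl
  refine hl.trans (Eq.symm ?_)
  show ((Scheme.Modules.pullback f').map χ).app _ (c₃.app _ (c₂.app _ (c₁.app _
    (KFlatLib.puSec u (KFlatLib.puSec f a))))) = _
  have e1 : c₁.app (u ⁻¹ᵁ (f ⁻¹ᵁ U)) (KFlatLib.puSec u (KFlatLib.puSec f a)) =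
      KFlatLib.puSecLE (u ≫ f) M (le_refl (u ⁻¹ᵁ (f ⁻¹ᵁ U))) a :=
    (CohCmpLib.pullbackComp_puSec u f M a).trans (hid _ _ _).symm
  rw [e1]
  refine (congrArg (fun z => ((Scheme.Modules.pullback f').map χ).app _ (c₃.app _ z))
    (CohCmpLib.pullbackCongr_puSec hsqv.w M a le_rfl hle)).trans ?_
  refine (congrArg (((Scheme.Modules.pullback f').map χ).app _)
    (congr($(c₃.mapPresheaf.naturality (homOfLE hle).op) (KFlatLib.puSec (f' ≫ v) a)))).trans ?_
  refine (congr($(((Scheme.Modules.pullback f').map χ).mapPresheaf.naturality (homOfLE hle).op) _)).trans ?_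
  refine congrArg ((PrinPart.grMod f' n).presheaf.map (homOfLE hle).op) ?_
  refine (congrArg (((Scheme.Modules.pullback f').map χ).app _) (CohCmpLib.pullbackComp_inv_puSec f' v M a)).trans ?_
  exact KFlatLib.puSec_natural f' χ (U := v ⁻¹ᵁ U) (KFlatLib.puSec v a)

end GrBCLib

end
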